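import Mathlib

set_option autoImplicit false
set_option linter.style.haveILetI false
set_option linter.unusedSectionVars false
set_option linter.unusedVariables false

namespace Cfsg.Agent.Lib.Helper1.Perm2p

open MulAction

variable {α : Type*} [Fintype α] [DecidableEq α]

def fixedEmbEquiv (G : Type*) [Group G] [MulAction G α] (k : ℕ) (x : G) :
    fixedBy (Fin k ↪ α) x ≃ (Fin k ↪ fixedBy α x) where
  toFun e := ⟨fun i => ⟨e.1 i, by
      have h := e.2
      rw [mem_fixedBy] at h
      have h2 := congrArg (fun f : Fin k ↪ α => f i) h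
      simp only [Function.Embedding.smul_apply] at h2
      exact h2⟩,
    fun i j hij => e.1.injective (congrArg Subtype.val hij)⟩
  invFun e := ⟨e.trans (Function.Embedding.subtype _), by
      rw [mem_fixedBy]
      ext i
      rw [Function.Embedding.smul_apply]
      exact (e i).2⟩
  left_inv e := by
    ext i
    rfl
  right_inv e := by
    ext i
    rfl

theorem card_fixedBy_emb (G : Type*) [Group G] [MulAction G α] (k : ℕ) (x : G) :
    Nat.card (fixedBy (Fin k ↪ α) x) = (Nat.card (fixedBy α x)).descFactorial k := by
  classical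
  rw [Nat.card_congr (fixedEmbEquiv G k x)]
  haveI : Fintype (fixedBy α x) := Fintype.ofFinite _
  rw [Nat.card_eq_fintype_card, Fintype.card_embedding_eq, Fintype.card_fin,
    Nat.card_eq_fintype_card]

theorem sum_descFactorial (G : Type*) [Group G] [Fintype G] [MulAction G α] (k : ℕ)
    [IsMultiplyPretransitive G α k] (hk : k ≤ Fintype.card α) :
    ∑ x : G, (Nat.card (fixedBy α x)).descFactorial k = Fintype.card G := by
  classical
  haveI : ∀ x : G, Fintype (fixedBy (Fin k ↪ α) x) := fun x => Fintype.ofFinite _
  haveI : Fintype (Quotient (orbitRel G (Fin k ↪ α))) := Fintype.ofFinite _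
  have hB := sum_card_fixedBy_eq_card_orbits_mul_card_group G (Fin k ↪ α)
  have hne : Nonempty (Fin k ↪ α) := by
    apply Function.Embedding.nonempty_of_card_le
    rw [Fintype.card_fin]
    exact hk
  have h1 : Fintype.card (Quotient (orbitRel G (Fin k ↪ α))) = 1 := by
    haveI : Subsingleton (orbitRel.Quotient G (Fin k ↪ α)) :=
      (pretransitive_iff_subsingleton_quotient G (Fin k ↪ α)).mp inferInstance
    haveI : Nonempty (Quotient (orbitRel G (Fin k ↪ α))) :=
      (nonempty_quotient_iff _).mpr hne
    apply le_antisymm
    · exact Fintype.card_le_one_iff_subsingleton.mpr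
        (inferInstanceAs (Subsingleton (orbitRel.Quotient G (Fin k ↪ α))))
    · exact Fintype.card_pos
  rw [h1, one_mul] at hB
  rw [← hB]
  refine Finset.sum_congr rfl fun x _ => ?_
  rw [← card_fixedBy_emb G k x, Nat.card_eq_fintype_card]

end Cfsg.Agent.Lib.Helper1.Perm2p
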