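import Mathlib
import Cfsg.Agent.Lib.Helper1.Perm2p.Moments

set_option autoImplicit false
set_option linter.style.haveILetI false
set_option linter.unusedSectionVars false
set_option linter.unusedVariables false

namespace Cfsg.Agent.Lib.Helper1.Perm2p

open MulAction

theorem cast_desc3 (n : ℕ) : ((n.descFactorial 3 : ℕ) : ℤ) = (n : ℤ) * ((n : ℤ) - 1) * ((n : ℤ) - 2) := by
  rcases n with _ | _ | n
  · simp
  · simp [Nat.descFactorial]
  · simp only [Nat.descFactorial]
    push_cast
    ring

theorem cast_desc2 (n : ℕ) : ((n.descFactorial 2 : ℕ) : ℤ) = (n : ℤ) * ((n : ℤ) - 1) := by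
  rcases n with _ | n
  · simp
  · simp only [Nat.descFactorial]
    push_cast
    ring

theorem cast_desc1 (n : ℕ) : ((n.descFactorial 1 : ℕ) : ℤ) = (n : ℤ) := by
  simp [Nat.descFactorial]

theorem term_nonneg (n p : ℕ) (h : n ≤ p) :
    0 ≤ ((n : ℤ) - 1) * ((n : ℤ) - 2) * ((p : ℤ) - n) := by
  have h1 : (0 : ℤ) ≤ (p : ℤ) - n := by
    have : (n : ℤ) ≤ p := by exact_mod_cast h
    linarith
  have h2 : (0 : ℤ) ≤ ((n : ℤ) - 1) * ((n : ℤ) - 2) := by
    rcases n with _ | _ | n
    · norm_num
    · norm_num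
    · push_cast
      have : (0 : ℤ) ≤ n := by positivity
      nlinarith
  exact mul_nonneg h2 h1

theorem term_zero (n p : ℕ) (h : n ≤ p) (h3 : 3 ≤ n)
    (h0 : ((n : ℤ) - 1) * ((n : ℤ) - 2) * ((p : ℤ) - n) = 0) : n = p := by
  have hn : (3 : ℤ) ≤ n := by exact_mod_cast h3
  rcases mul_eq_zero.mp h0 with h | h
  · rcases mul_eq_zero.mp h with h | h
    · linarith
    · linarith
  · have : (n : ℤ) = p := by linarith
    exact_mod_cast this

variable {α : Type*} [Fintype α] [DecidableEq α]

theorem fixed_of_order (G : Subgroup (Equiv.Perm α)) (p : ℕ) (hp : p.Prime)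
    (hα : Fintype.card α = p) (x : G) (hx : orderOf x = p) : Nat.card (fixedBy α x) = 0 := by
  have hx' : orderOf (x : Equiv.Perm α) = Fintype.card α := by
    rw [Subgroup.orderOf_coe, hx, hα]
  have hcyc : (x : Equiv.Perm α).IsCycle :=
    Equiv.Perm.isCycle_of_prime_order'' (by rw [hα]; exact hp) hx'
  have hsupp : (x : Equiv.Perm α).support.card = Fintype.card α := by
    rw [← hcyc.orderOf, hx']
  have huniv : (x : Equiv.Perm α).support = Finset.univ :=
    Finset.eq_univ_of_card _ hsupp
  have hempty : IsEmpty (fixedBy α x) := by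
    constructor
    rintro ⟨a, ha⟩
    have hmem : a ∈ (x : Equiv.Perm α).support := by rw [huniv]; exact Finset.mem_univ a
    rw [Equiv.Perm.mem_support] at hmem
    apply hmem
    rw [mem_fixedBy] at ha
    exact ha
  exact Nat.card_of_isEmpty

theorem fixed_le (G : Subgroup (Equiv.Perm α)) (x : G) :
    Nat.card (fixedBy α x) ≤ Fintype.card α := by
  rw [← Nat.card_eq_fintype_card]
  exact Nat.card_le_card_of_injective (fun a : fixedBy α x => (a : α)) Subtype.val_injective

theorem eq_one_of_fixed (G : Subgroup (Equiv.Perm α)) (x : G)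
    (h : Nat.card (fixedBy α x) = Fintype.card α) : x = 1 := by
  have hall : ∀ a : α, a ∈ fixedBy α x := by
    have hs : (fixedBy α x) = Set.univ := by
      rw [Set.eq_univ_iff_ncard, ← Nat.card_coe_set_eq, h, Nat.card_eq_fintype_card]
    intro a
    rw [hs]
    exact Set.mem_univ a
  apply Subtype.ext
  ext a
  have := hall a
  rw [mem_fixedBy] at this
  exact this

theorem sharp_of_count (G : Subgroup (Equiv.Perm α)) (p : ℕ) (hp : p.Prime) (hp3 : 3 ≤ p)
    (hα : Fintype.card α = p) (h3 : IsMultiplyPretransitive G α 3)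
    (hE : 2 * p * Nat.card {x : G // orderOf x = p} = (p - 1) * Nat.card G)
    (x : G) (hx : 3 ≤ Nat.card (fixedBy α x)) : x = 1 := by
  classical
  haveI : Fintype G := Fintype.ofFinite _
  haveI h2 : IsMultiplyPretransitive G α 2 :=
    isMultiplyPretransitive_of_le (n := 3) (by norm_num) (by rw [Nat.card_eq_fintype_card, hα]; exact_mod_cast hp3)
  haveI h1 : IsMultiplyPretransitive G α 1 :=
    isMultiplyPretransitive_of_le (n := 3) (by norm_num) (by rw [Nat.card_eq_fintype_card, hα]; exact_mod_cast hp3)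
  set f : G → ℕ := fun x => Nat.card (fixedBy α x) with hf
  have hm1 := sum_descFactorial (α := α) G 1 (by rw [hα]; omega)
  have hm2 := sum_descFactorial (α := α) G 2 (by rw [hα]; omega)
  have hm3 := sum_descFactorial (α := α) G 3 (by rw [hα]; omega)
  set g : ℕ := Fintype.card G with hg
  have hgc : Nat.card G = g := Nat.card_eq_fintype_card
  set T : G → ℤ := fun x => ((f x : ℤ) - 1) * ((f x : ℤ) - 2) * ((p : ℤ) - f x) with hT
  have hTexp : ∀ x, T x = (p : ℤ) * ((((f x).descFactorial 2 : ℕ) : ℤ) -
      2 * (((f x).descFactorial 1 : ℕ) : ℤ) + 2) - (((f x).descFactorial 3 : ℕ) : ℤ) := by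
    intro x
    rw [cast_desc3, cast_desc2, cast_desc1]
    simp only [hT]
    ring
  have hsumT : ∑ x : G, T x = ((p : ℤ) - 1) * g := by
    simp only [hTexp]
    rw [Finset.sum_sub_distrib, ← Finset.mul_sum, Finset.sum_add_distrib, Finset.sum_sub_distrib,
      ← Finset.mul_sum]
    have e1 : ∑ x : G, (((f x).descFactorial 1 : ℕ) : ℤ) = g := by
      rw [← Nat.cast_sum]; exact_mod_cast hm1
    have e2 : ∑ x : G, (((f x).descFactorial 2 : ℕ) : ℤ) = g := by
      rw [← Nat.cast_sum]; exact_mod_cast hm2
    have e3 : ∑ x : G, (((f x).descFactorial 3 : ℕ) : ℤ) = g := by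
      rw [← Nat.cast_sum]; exact_mod_cast hm3
    rw [e1, e2, e3]
    simp only [Finset.sum_const, Finset.card_univ, nsmul_eq_mul]
    rw [← hg]
    ring
  have hfE : ∀ y : G, orderOf y = p → f y = 0 := fun y hy => fixed_of_order G p hp hα y hy
  have hle : ∀ y : G, f y ≤ p := fun y => by
    have := fixed_le G y
    rw [hα] at this
    exact this
  have hsplit : ∑ x : G, T x = ∑ x ∈ Finset.univ.filter (fun y : G => orderOf y = p), T x +
      ∑ x ∈ Finset.univ.filter (fun y : G => ¬ orderOf y = p), T x :=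
    (Finset.sum_filter_add_sum_filter_not _ _ _).symm
  have hEsum : ∑ x ∈ Finset.univ.filter (fun y : G => orderOf y = p), T x =
      2 * (p : ℤ) * (Finset.univ.filter (fun y : G => orderOf y = p)).card := by
    rw [Finset.sum_congr rfl (g := fun _ => 2 * (p : ℤ))]
    · rw [Finset.sum_const, nsmul_eq_mul]
      ring
    · intro y hy
      rw [Finset.mem_filter] at hy
      simp only [hT]
      rw [hfE y hy.2]
      push_cast
      ring
  have hEcard : (Finset.univ.filter (fun y : G => orderOf y = p)).card =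
      Nat.card {x : G // orderOf x = p} := by
    rw [Nat.card_eq_fintype_card, Fintype.card_subtype]
  have hrest : ∑ x ∈ Finset.univ.filter (fun y : G => ¬ orderOf y = p), T x = 0 := by
    have hEZ : 2 * (p : ℤ) * (Nat.card {x : G // orderOf x = p} : ℤ) = ((p : ℤ) - 1) * g := by
      have h1p : 1 ≤ p := by omega
      have := hE
      rw [hgc] at this
      have h2 : ((2 * p * Nat.card {x : G // orderOf x = p} : ℕ) : ℤ) = (((p - 1) * g : ℕ) : ℤ) := by
        exact_mod_cast this
      push_cast [Nat.cast_sub h1p] at h2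
      linarith
    rw [hsplit, hEsum, hEcard, hEZ] at hsumT
    linarith
  have hzero := (Finset.sum_eq_zero_iff_of_nonneg (fun y _ => term_nonneg (f y) p (hle y))).mp hrest
  have hxE : ¬ orderOf x = p := by
    intro h
    have := hfE x h
    simp only [hf] at this
    omega
  have hTx : T x = 0 := hzero x (by rw [Finset.mem_filter]; exact ⟨Finset.mem_univ _, hxE⟩)
  have hfx : f x = p := term_zero (f x) p (hle x) hx hTx
  apply eq_one_of_fixed G x
  rw [hα]
  exact hfx

end Cfsg.Agent.Lib.Helper1.Perm2p
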