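import Mathlib
import Cfsg.Agent.Lib.helper8.SylowBasic

set_option autoImplicit false
set_option linter.style.haveILetI false
set_option linter.unusedSectionVars false
set_option linter.unusedVariables false

namespace Cfsg.Agent.Lib.Helper1.Perm2p

open MulAction Cfsg.Agent.Lib.helper8

variable {α : Type*} [Fintype α] [DecidableEq α]

def omegaSub {G : Type*} [Group G] (A : Subgroup G) (hA : A ≤ Subgroup.centralizer (A : Set G))
    (p : ℕ) : Subgroup G where
  carrier := {g | g ∈ A ∧ g ^ p = 1}
  one_mem' := ⟨A.one_mem, one_pow p⟩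
  mul_mem' := by
    rintro a b ⟨ha, hap⟩ ⟨hb, hbp⟩
    refine ⟨A.mul_mem ha hb, ?_⟩
    have hc : Commute a b := by
      have := hA hb
      rw [Subgroup.mem_centralizer_iff] at this
      exact (this a ha)
    rw [hc.mul_pow, hap, hbp, one_mul]
  inv_mem' := by
    rintro a ⟨ha, hap⟩
    exact ⟨A.inv_mem ha, by rw [inv_pow, hap, inv_one]⟩

theorem mem_omegaSub {G : Type*} [Group G] (A : Subgroup G)
    (hA : A ≤ Subgroup.centralizer (A : Set G)) (p : ℕ) (g : G) :
    g ∈ omegaSub A hA p ↔ g ∈ A ∧ g ^ p = 1 := Iff.rfl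

theorem omegaSub_normal {G : Type*} [Group G] (A : Subgroup G) [hn : A.Normal]
    (hA : A ≤ Subgroup.centralizer (A : Set G)) (p : ℕ) : (omegaSub A hA p).Normal := by
  constructor
  rintro a ⟨ha, hap⟩ g
  refine ⟨hn.conj_mem a ha g, ?_⟩
  rw [conj_pow, hap, mul_one, mul_inv_cancel]

theorem omegaSub_pgroup {G : Type*} [Group G] (A : Subgroup G)
    (hA : A ≤ Subgroup.centralizer (A : Set G)) (p : ℕ) : IsPGroup p (omegaSub A hA p) := by
  intro g
  refine ⟨1, ?_⟩
  apply Subtype.ext
  rw [pow_one, Subgroup.coe_pow, Subgroup.coe_one]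
  exact g.2.2

theorem normal_of_solvable (G : Subgroup (Equiv.Perm α)) (p : ℕ) [hp : Fact p.Prime]
    (hα : Fintype.card α = p) [IsPretransitive G α] (hs : IsSolvable G) (m : ℕ)
    (hG : Nat.card G = p * m) (hm : ¬ p ∣ m) (P : Sylow p G) : (P : Subgroup G).Normal := by
  classical
  have hP : Nat.card (P : Subgroup G) = p := by
    have := h8_sylow_card p 1 m (by rw [pow_one]; exact hG) hm P
    rwa [pow_one] at this
  haveI : IsPreprimitive G α :=
    IsPreprimitive.of_prime_card (by rw [Nat.card_eq_fintype_card, hα]; exact hp.out)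
  have hsol := hs.solvable
  have hnt : Nontrivial G := by
    rw [← Finite.one_lt_card_iff_nontrivial, hG]
    have h2 := hp.out.two_le
    have hm0 : m ≠ 0 := by
      rintro rfl
      exact hm (dvd_zero p)
    have : 1 ≤ m := Nat.one_le_iff_ne_zero.mpr hm0
    nlinarith
  have h0 : Nat.find hsol ≠ 0 := by
    intro h
    have := Nat.find_spec hsol
    rw [h, derivedSeries_zero] at this
    exact top_ne_bot this
  obtain ⟨k, hk⟩ := Nat.exists_eq_succ_of_ne_zero h0
  have hAne : derivedSeries G k ≠ ⊥ := by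
    have := Nat.find_min hsol (m := k) (by omega)
    exact this
  have hAcomm : derivedSeries G k ≤ Subgroup.centralizer (derivedSeries G k : Set G) := by
    rw [← Subgroup.commutator_eq_bot_iff_le_centralizer, ← derivedSeries_succ]
    have := Nat.find_spec hsol
    rw [hk] at this
    exact this
  set A : Subgroup G := derivedSeries G k with hAdef
  haveI hAn : A.Normal := derivedSeries_normal G k
  obtain ⟨a, haA, ha1⟩ : ∃ a ∈ A, a ≠ 1 := by
    by_contra hcon
    push Not at hcon
    apply hAne
    rw [Subgroup.eq_bot_iff_forall]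
    exact hcon
  have hfix : fixedPoints A α ≠ Set.univ := by
    intro h
    apply ha1
    apply Subtype.ext
    ext x
    have hx : x ∈ fixedPoints A α := by rw [h]; exact Set.mem_univ x
    rw [mem_fixedPoints] at hx
    exact hx ⟨a, haA⟩
  haveI hAt : IsPretransitive A α := IsQuasiPreprimitive.isPretransitive_of_normal hfix
  have hne : Nonempty α := by
    rw [← Fintype.card_pos_iff, hα]
    exact hp.out.pos
  obtain ⟨x0⟩ := hne
  have hpA : p ∣ Nat.card A := by
    have h1 := index_stabilizer_of_transitive (G := A) (X := α) (x := x0)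
    rw [Nat.card_eq_fintype_card, hα] at h1
    rw [← h1]
    exact Subgroup.index_dvd_card _
  obtain ⟨y, hy⟩ := exists_prime_orderOf_dvd_card' (G := A) p hpA
  have hyp : ((y : G)) ^ p = 1 := by
    have := pow_orderOf_eq_one y
    rw [hy] at this
    have h2 := congrArg Subtype.val this
    rwa [Subgroup.coe_pow, Subgroup.coe_one] at h2
  have hy1 : (y : G) ≠ 1 := by
    intro h
    have : y = 1 := Subtype.ext h
    rw [this, orderOf_one] at hy
    exact hp.out.one_lt.ne hy
  set Ω : Subgroup G := omegaSub A hAcomm p with hΩ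
  haveI hΩn : Ω.Normal := omegaSub_normal A hAcomm p
  have hΩp : IsPGroup p Ω := omegaSub_pgroup A hAcomm p
  have hΩP : Ω ≤ (P : Subgroup G) := hΩp.le_sylow_of_normal P
  have hyΩ : (y : G) ∈ Ω := (mem_omegaSub A hAcomm p _).mpr ⟨y.2, hyp⟩
  have hΩcard : Nat.card Ω = p := by
    have hdvd : Nat.card Ω ∣ p := by
      rw [← hP]
      exact Subgroup.card_dvd_of_le hΩP
    rcases (Nat.dvd_prime hp.out).mp hdvd with h | h
    · exfalso
      apply hy1
      have hbot : Ω = ⊥ := Subgroup.card_eq_one.mp h
      rw [hbot, Subgroup.mem_bot] at hyΩ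
      exact hyΩ
    · exact h
  have heq : Ω = (P : Subgroup G) :=
    Subgroup.eq_of_le_of_card_ge hΩP (by rw [hP, hΩcard])
  rw [← heq]
  exact hΩn

end Cfsg.Agent.Lib.Helper1.Perm2p
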